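import Groth.Agent.GorOpenLib.Nondeg
import Groth.Agent.GorLib.BaseChangeScheme
import Groth.Agent.CMFlatLib.BaseChangeScheme
import Groth.Agent.CMFlatLib.ChartConv
import Groth.Agent.CMFlatLib.Fibre
import Groth.Agent.CurvFieldLib.Charts
import Groth.Agent.DepthLib.GeomRk
import Groth.Agent.UOpenLib.FibreDim
import Groth.Agent.EtLocLib.Finite
import Groth.Agent.S0342
import Groth.Agent.Unram17Lib.FibreMap
import Groth.Agent.Unram17Lib.EtaleChartPullback

/-!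
# The Gorenstein locus of a flat morphism locally of finite presentation is open
-/

set_option autoImplicit false
set_option linter.style.haveILetI false
set_option backward.isDefEq.respectTransparency.types false
universe u

open CategoryTheory CategoryTheory.Limits AlgebraicGeometry IsLocalRing TensorProduct

namespace GorOpenLib

theorem noeth_fibre {X Y : Scheme.{u}} (f : X ⟶ Y) [LocallyOfFiniteType f] (y : Y) :
    IsLocallyNoetherian (f.fiber y) :=
  haveI := UOpenLib.lft_fiberToSpec f y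
  LocallyOfFiniteType.isLocallyNoetherian (f.fiberToSpecResidueField y)

theorem gorAt_comp {X Y Z : Scheme.{u}} (f : X ⟶ Y) (g : Y ⟶ Z) (x : X)
    (hN : IsLocallyNoetherian ((f ≫ g).fiber (g (f x))))
    (hf : Dual3.IsGorensteinAt f x) (hg : Dual3.IsGorensteinAt g (f x)) : Dual3.IsGorensteinAt (f ≫ g) x := by
  haveI : IsLocallyNoetherian ((f ≫ g).fiber ((f ≫ g) x)) := by rw [Scheme.Hom.comp_apply]; exact hN
  have hC := GorLib.isNoetherianRing_fibre (f ≫ g) x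
  have hcomp : ((f ≫ g).stalkMap x).hom = (f.stalkMap x).hom.comp (g.stalkMap (f x)).hom :=
    congrArg CommRingCat.Hom.hom (Scheme.Hom.stalkMap_comp f g x)
  rw [GorLib.isGorensteinAt_iff] at hf hg ⊢
  rw [hcomp] at hC ⊢
  exact ⟨hg.1.comp hf.1, (GorLib.gorenstein_fibre_comp (g.stalkMap (f x)).hom (f.stalkMap x).hom hf.1
    (CMFlatLib.isNoetherianRing_fibre_of_comp (g.stalkMap (f x)).hom (f.stalkMap x).hom hf.1 hC) hC).2
      ⟨hg.2, hf.2⟩⟩

theorem gorAt_of_comp {X Y Z : Scheme.{u}} (f : X ⟶ Y) (g : Y ⟶ Z) (x : X)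
    (hNg : IsLocallyNoetherian (g.fiber (g (f x))))
    (h : Dual3.IsGorensteinAt (f ≫ g) x) (hfl : (f.stalkMap x).hom.Flat) :
    Dual3.IsGorensteinAt f x ∧ Dual3.IsGorensteinAt g (f x) := by
  haveI := hNg
  have hB := GorLib.isNoetherianRing_fibre g (f x)
  have hcomp : ((f ≫ g).stalkMap x).hom = (f.stalkMap x).hom.comp (g.stalkMap (f x)).hom :=
    congrArg CommRingCat.Hom.hom (Scheme.Hom.stalkMap_comp f g x)
  rw [GorLib.isGorensteinAt_iff] at h
  rw [GorLib.isGorensteinAt_iff, GorLib.isGorensteinAt_iff]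
  rw [hcomp] at h
  haveI := h.2
  have hC : IsNoetherianRing (X.presheaf.stalk x ⧸ (maximalIdeal (Z.presheaf.stalk ((f ≫ g) x))).map
      ((f.stalkMap x).hom.comp (g.stalkMap (f x)).hom)) := h.2.1
  have h2 := (GorLib.gorenstein_fibre_comp (g.stalkMap (f x)).hom (f.stalkMap x).hom hfl hB hC).1 h.2
  exact ⟨⟨hfl, h2.2⟩, ⟨SweepSix.flat_of_comp (g.stalkMap (f x)).hom (f.stalkMap x).hom hfl h.1, h2.1⟩⟩

theorem gorenstein_stalk_of_smooth {k : Type u} [Field k] {F : Scheme.{u}} (q : F ⟶ Spec (CommRingCat.of k))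
    (hq : Smooth q) (y : F) : LocCoh.IsGorensteinLocalRing (F.presheaf.stalk y) := by
  haveI := hq
  haveI : IsLocallyNoetherian F := LocallyOfFiniteType.isLocallyNoetherian q
  haveI := (DepthLib.regular_of_smooth_and_conversely q y).1 (by rw [Scheme.Hom.smoothLocus_eq_top]; trivial)
  exact Groth.Agent.S0342.result _

theorem gorAt_of_smooth {X Y : Scheme.{u}} (g : X ⟶ Y) [Smooth g] (x : X) : Dual3.IsGorensteinAt g x := by
  refine ⟨Flat.stalkMap g x, ?_⟩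
  haveI : Smooth (g.fiberToSpecResidueField (g x)) := MorphismProperty.pullback_snd _ _ inferInstance
  exact gorenstein_stalk_of_smooth (k := Y.residueField (g x)) (g.fiberToSpecResidueField (g x)) ‹_› (g.asFiber x)

theorem gorAt_comp_smooth_iff {X Y Z : Scheme.{u}} (f : X ⟶ Y) (g : Y ⟶ Z) [Smooth g] [LocallyOfFiniteType f]
    (x : X) (hfl : (f.stalkMap x).hom.Flat) : Dual3.IsGorensteinAt (f ≫ g) x ↔ Dual3.IsGorensteinAt f x :=
  ⟨fun h => (gorAt_of_comp f g x (noeth_fibre g _) h hfl).1,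
    fun h => gorAt_comp f g x (noeth_fibre (f ≫ g) _) h (gorAt_of_smooth g _)⟩

theorem gorAt_smooth_comp_iff {X Y Z : Scheme.{u}} (f : X ⟶ Y) (g : Y ⟶ Z) [Smooth f] [LocallyOfFiniteType g]
    (x : X) : Dual3.IsGorensteinAt (f ≫ g) x ↔ Dual3.IsGorensteinAt g (f x) :=
  ⟨fun h => (gorAt_of_comp f g x (noeth_fibre g _) h (Flat.stalkMap f x)).2,
    fun h => gorAt_comp f g x (noeth_fibre (f ≫ g) _) (gorAt_of_smooth f x) h⟩

section Algebra

variable {A B : Type u} [CommRing A] [CommRing B] [Algebra A B]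

/-- The prime of `B` under a prime of a fibre. -/
theorem comap_comap_fibre (p : Ideal A) [p.IsPrime] (Q : Ideal (p.Fiber B)) [Q.IsPrime] :
    (Q.comap (Algebra.TensorProduct.includeRight : B →ₐ[A] p.Fiber B).toRingHom).comap (algebraMap A B) = p := by
  rw [Ideal.comap_comap, show (Algebra.TensorProduct.includeRight : B →ₐ[A] p.Fiber B).toRingHom.comp (algebraMap A B) =
      (algebraMap p.ResidueField (p.Fiber B)).comp (algebraMap A p.ResidueField) from RingHom.ext fun a =>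
        ((Algebra.TensorProduct.includeRight : B →ₐ[A] p.Fiber B).commutes a).trans
          (IsScalarTower.algebraMap_apply A p.ResidueField (p.Fiber B) a), ← Ideal.comap_comap, (Ideal.eq_bot_or_top (Q.comap (algebraMap p.ResidueField (p.Fiber B)))).resolve_right
      (Ideal.IsPrime.comap _).ne_top]
  exact Ideal.ker_algebraMap_residueField p

theorem fibre_prime_ext (p : PrimeSpectrum A) (Q Q' : Ideal (p.asIdeal.Fiber B)) [Q.IsPrime] [Q'.IsPrime]
    (h : Q.comap (Algebra.TensorProduct.includeRight : B →ₐ[A] p.asIdeal.Fiber B).toRingHom =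
      Q'.comap (Algebra.TensorProduct.includeRight : B →ₐ[A] p.asIdeal.Fiber B).toRingHom) : Q = Q' := by
  let E := PrimeSpectrum.preimageOrderIsoFiber A B p
  have : E.symm ⟨Q, inferInstance⟩ = E.symm ⟨Q', inferInstance⟩ := Subtype.ext (PrimeSpectrum.ext h)
  exact congrArg PrimeSpectrum.asIdeal (E.symm.injective this)

variable [Module.Finite A B] [Module.Projective A B]

/-- If the only point over `p` is Gorenstein in its fibre, all points over a neighbourhood of `p` are. -/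
theorem exists_nbhd_gorenstein (p : PrimeSpectrum A) (q : PrimeSpectrum B)
    (hq : q.asIdeal.comap (algebraMap A B) = p.asIdeal)
    (huniq : ∀ q' : PrimeSpectrum B, q'.asIdeal.comap (algebraMap A B) = p.asIdeal → q' = q)
    (hgor : LocCoh.IsGorensteinLocalRing
      (Localization.AtPrime q.asIdeal ⧸ p.asIdeal.map (algebraMap A (Localization.AtPrime q.asIdeal)))) :
    ∃ O : Set (PrimeSpectrum A), IsOpen O ∧ p ∈ O ∧ ∀ (q' : PrimeSpectrum B) (p' : Ideal A) [p'.IsPrime],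
      q'.asIdeal.comap (algebraMap A B) = p' → ⟨p', ‹_›⟩ ∈ O →
      LocCoh.IsGorensteinLocalRing
        (Localization.AtPrime q'.asIdeal ⧸ p'.map (algebraMap A (Localization.AtPrime q'.asIdeal))) := by
  let k := p.asIdeal.ResidueField
  haveI : Module.Finite k (p.asIdeal.Fiber B) := inferInstance
  haveI : IsArtinianRing (p.asIdeal.Fiber B) := IsArtinianRing.of_finite k _
  let E := PrimeSpectrum.preimageOrderIsoFiber A B p
  let Q₀ := E ⟨q, PrimeSpectrum.ext hq⟩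
  have hQ₀ : Q₀.asIdeal.comap (Algebra.TensorProduct.includeRight : B →ₐ[A] p.asIdeal.Fiber B).toRingHom =
      q.asIdeal := congrArg (fun z ↦ z.1.asIdeal) (E.symm_apply_apply ⟨q, PrimeSpectrum.ext hq⟩)
  have hloc : ∀ Q : Ideal (p.asIdeal.Fiber B), Q.IsPrime → Q = Q₀.asIdeal := fun Q hQ => by
    haveI := hQ
    refine fibre_prime_ext p Q Q₀.asIdeal (Eq.trans ?_ hQ₀.symm)
    exact congrArg PrimeSpectrum.asIdeal (huniq ⟨_, Ideal.IsPrime.comap _⟩ (comap_comap_fibre p.asIdeal Q))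
  haveI : IsLocalRing (p.asIdeal.Fiber B) := IsLocalRing.of_unique_max_ideal
    ⟨Q₀.asIdeal, inferInstance, fun Q hQ => hloc Q hQ.isPrime⟩
  obtain ⟨θ, -⟩ := CMFlatLib.exists_fibreLocal_equiv p.asIdeal Q₀.asIdeal q.asIdeal hQ₀
  have hunits : ∀ x ∈ Q₀.asIdeal.primeCompl, IsUnit x := fun x hx => by
    by_contra hxn
    exact hx (IsLocalRing.eq_maximalIdeal (I := Q₀.asIdeal) inferInstance ▸ hxn)
  have h1 : LocCoh.IsGorensteinLocalRing (p.asIdeal.Fiber B) :=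
    (GorLib.gorenstein_congr (IsLocalization.atUnits (p.asIdeal.Fiber B) Q₀.asIdeal.primeCompl
      (S := Localization.AtPrime Q₀.asIdeal) hunits).toRingEquiv).2 ((GorLib.gorenstein_congr (S := Localization.AtPrime Q₀.asIdeal) θ).1 hgor)
  obtain ⟨φ, hφ⟩ := exists_nondeg (k := k) (GorLib.gorenstein_iff_socCyclic.1 h1)
  obtain ⟨O, hO, hpO, hOψ⟩ := exists_nbhd_nondeg p φ hφ
  refine ⟨O, hO, hpO, fun q' p' _ hq' hmem => ?_⟩
  obtain ⟨ψ, hψ⟩ := hOψ _ hmem
  let E' := PrimeSpectrum.preimageOrderIsoFiber A B ⟨p', ‹_›⟩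
  let Q' := E' ⟨q', PrimeSpectrum.ext hq'⟩
  have hQ' : Q'.asIdeal.comap (Algebra.TensorProduct.includeRight : B →ₐ[A] p'.Fiber B).toRingHom =
      q'.asIdeal := congrArg (fun z ↦ z.1.asIdeal) (E'.symm_apply_apply ⟨q', PrimeSpectrum.ext hq'⟩)
  haveI : IsArtinianRing (p'.Fiber B) := IsArtinianRing.of_finite p'.ResidueField _
  obtain ⟨θ', -⟩ := CMFlatLib.exists_fibreLocal_equiv p' Q'.asIdeal q'.asIdeal hQ'
  exact (GorLib.gorenstein_congr (S := Localization.AtPrime Q'.asIdeal) θ').2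
    (GorLib.gorenstein_iff_socCyclic.2 (socCyclic_localization hψ Q'.asIdeal))

end Algebra

/-- The finite case. -/
theorem exists_open_gor_finite {O V : Scheme.{u}} (h : O ⟶ V) [IsFinite h] [Flat h] [LocallyOfFinitePresentation h]
    (z : O) (huni : ∀ z', h z' = h z → z' = z) (hz : Dual3.IsGorensteinAt h z) :
    ∃ V' : V.Opens, h z ∈ V' ∧ ∀ z', h z' ∈ V' → Dual3.IsGorensteinAt h z' := by
  obtain ⟨U, hU, hvU, -⟩ := exists_isAffineOpen_mem_and_subset (x := h z) (U := ⊤) trivial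
  have hU' : IsAffineOpen (h ⁻¹ᵁ U) := hU.preimage h
  letI := (h.appLE U (h ⁻¹ᵁ U) le_rfl).hom.toAlgebra
  haveI : Module.Finite Γ(V, U) Γ(O, h ⁻¹ᵁ U) := by
    have := h.finite_app U hU
    rwa [Scheme.Hom.app_eq_appLE] at this
  haveI : Module.Flat Γ(V, U) Γ(O, h ⁻¹ᵁ U) := h.flat_appLE hU hU' le_rfl
  haveI : Algebra.FinitePresentation Γ(V, U) Γ(O, h ⁻¹ᵁ U) := h.finitePresentation_appLE hU hU' le_rfl
  haveI : Module.FinitePresentation Γ(V, U) Γ(O, h ⁻¹ᵁ U) :=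
    Module.FinitePresentation.of_finite_of_finitePresentation _ _
  haveI : Module.Projective Γ(V, U) Γ(O, h ⁻¹ᵁ U) := Module.Flat.projective_of_finitePresentation
  have hcomap : ∀ (z' : O) (hz' : z' ∈ h ⁻¹ᵁ U),
      (hU'.primeIdealOf ⟨z', hz'⟩).asIdeal.comap (algebraMap Γ(V, U) Γ(O, h ⁻¹ᵁ U)) =
        (hU.primeIdealOf ⟨h z', hz'⟩).asIdeal := fun z' hz' => by
    rw [← IsAffineOpen.comap_primeIdealOf_appLE (f := h) U hU _ hU' le_rfl hz']
    rfl
  let p := hU.primeIdealOf ⟨h z, hvU⟩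
  obtain ⟨O₀, hO₀, hpO, hO⟩ := exists_nbhd_gorenstein (A := Γ(V, U)) (B := Γ(O, h ⁻¹ᵁ U)) p
    (hU'.primeIdealOf ⟨z, hvU⟩) (hcomap z hvU) (fun q' hq' => by
      have hz' : hU'.fromSpec q' ∈ h ⁻¹ᵁ U := hU'.range_fromSpec.le ⟨q', rfl⟩
      have hq'eq : hU'.primeIdealOf ⟨hU'.fromSpec q', hz'⟩ = q' :=
        hU'.fromSpec.isOpenEmbedding.injective (hU'.fromSpec_primeIdealOf ⟨_, hz'⟩)
      have h2 : hU.primeIdealOf ⟨h (hU'.fromSpec q'), hz'⟩ = p :=
        PrimeSpectrum.ext ((hcomap _ hz').symm.trans (by rw [hq'eq]; exact hq'))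
      have h3 : h (hU'.fromSpec q') = h z := by
        have := congrArg hU.fromSpec h2
        rwa [hU.fromSpec_primeIdealOf, hU.fromSpec_primeIdealOf] at this
      rw [← hq'eq]
      exact congrArg hU'.primeIdealOf (Subtype.ext (huni _ h3)))
    ((GorLib.isGorensteinAt_chart h hU hU' le_rfl rfl z hvU p.asIdeal _ rfl (hcomap z hvU).symm).2.1.1
      ((GorLib.isGorensteinAt_iff h z).1 hz).2)
  refine ⟨⟨hU.fromSpec '' O₀, hU.fromSpec.isOpenEmbedding.isOpenMap _ hO₀⟩,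
    ⟨p, hpO, hU.fromSpec_primeIdealOf ⟨h z, hvU⟩⟩, ?_⟩
  rintro z' ⟨P, hP, hPz⟩
  have hz' : z' ∈ h ⁻¹ᵁ U := by
    show h z' ∈ U
    rw [← hPz]
    exact hU.range_fromSpec.le ⟨P, rfl⟩
  have hPeq : hU.primeIdealOf ⟨h z', hz'⟩ = P :=
    hU.fromSpec.isOpenEmbedding.injective ((hU.fromSpec_primeIdealOf ⟨_, hz'⟩).trans hPz.symm)
  refine (GorLib.isGorensteinAt_iff h z').2 ⟨Flat.stalkMap h z', ?_⟩
  refine (GorLib.isGorensteinAt_chart h hU hU' le_rfl rfl z' hz' (hU.primeIdealOf ⟨h z', hz'⟩).asIdeal _ rfl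
    (hcomap z' hz').symm).2.1.2 (hO _ _ (hcomap z' hz') ?_)
  rw [show (⟨(hU.primeIdealOf ⟨h z', hz'⟩).asIdeal, inferInstance⟩ : PrimeSpectrum Γ(V, U)) = P from hPeq]
  exact hP

/-- The quasi-finite case. -/
theorem exists_open_gor_qf {W P : Scheme.{u}} (g : W ⟶ P) [Flat g] [LocallyOfFinitePresentation g]
    [LocallyQuasiFinite g] (x : W) (hx : Dual3.IsGorensteinAt g x) :
    ∃ O : W.Opens, x ∈ O ∧ ∀ w ∈ O, Dual3.IsGorensteinAt g w := by
  obtain ⟨V, g₀, _, v, W₀, z, -, -, hfin, hzW, hzv, hzx, huni⟩ := EtLocLib.exists_finite_open_elementary g x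
  haveI := hfin
  have sq := IsPullback.of_hasPullback g g₀
  let π := pullback.snd g g₀
  haveI : Flat π := MorphismProperty.pullback_snd _ _ ‹Flat g›
  haveI : LocallyOfFinitePresentation π := MorphismProperty.pullback_snd _ _ ‹LocallyOfFinitePresentation g›
  haveI : Etale (pullback.fst g g₀) := MorphismProperty.pullback_fst _ _ ‹Etale g₀›
  let h : (W₀ : Scheme.{u}) ⟶ V := W₀.ι ≫ π
  have hb : ∀ w : (pullback g g₀ : Scheme.{u}),
      Dual3.IsGorensteinAt π w ↔ Dual3.IsGorensteinAt g (pullback.fst g g₀ w) := fun w =>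
    have H := GorLib.gorensteinAt_baseChange g g₀ π (pullback.fst g g₀) sq w (Or.inr inferInstance)
    ⟨H.2.1 (Flat.stalkMap g _), H.1⟩
  have hz : Dual3.IsGorensteinAt h ⟨z, hzW⟩ :=
    (gorAt_smooth_comp_iff W₀.ι π _).2 ((hb z).2 (by rw [hzx]; exact hx))
  obtain ⟨V', hvV', hV'⟩ := exists_open_gor_finite h ⟨z, hzW⟩ (fun z' e => Subtype.ext (huni _ z'.2 (by
    have e' : π (W₀.ι z') = π (W₀.ι ⟨z, hzW⟩) := e
    exact e'.trans hzv))) hz
  refine ⟨⟨pullback.fst g g₀ '' ((W₀ ⊓ π ⁻¹ᵁ V' : (pullback g g₀).Opens) : Set ↥(pullback g g₀)),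
    (pullback.fst g g₀).isOpenMap _ (W₀ ⊓ π ⁻¹ᵁ V').2⟩, ⟨z, ⟨hzW, hvV'⟩, hzx⟩, ?_⟩
  rintro _ ⟨w, ⟨hwW, hwV⟩, rfl⟩
  exact (hb w).1 ((gorAt_smooth_comp_iff W₀.ι π ⟨w, hwW⟩).1 (hV' ⟨w, hwW⟩ hwV))

/-- Openness of the Gorenstein locus. -/
theorem isOpen_gorAt {X S : Scheme.{u}} (f : X ⟶ S) [Flat f] [LocallyOfFinitePresentation f] :
    IsOpen {x : X | Dual3.IsGorensteinAt f x} := by
  refine isOpen_iff_forall_mem_open.2 fun x hx => ?_
  have hcm : MoreMor.IsCMAt f x := ⟨hx.1, CMFlatLib.cm_of_gorenstein hx.2⟩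
  obtain ⟨d, W, hxW, g, -, hg, _, _⟩ := CMFlatLib.exists_toAffineSpace_of_isCMAt f x hcm
  haveI : LocallyOfFinitePresentation (g ≫ (𝔸(ULift.{u} (Fin d); S) ↘ S)) := by rw [hg]; infer_instance
  haveI : Smooth (𝔸(ULift.{u} (Fin d); S) ↘ S) := Unram17Lib.smooth_affineSpace_over _ S
  haveI : LocallyOfFinitePresentation g := Unram17Lib.lfp_of_comp_lft g (𝔸(ULift.{u} (Fin d); S) ↘ S)
  have key : ∀ w : (W : Scheme.{u}), Dual3.IsGorensteinAt g w ↔ Dual3.IsGorensteinAt f (W.ι w) := fun w => by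
    rw [← gorAt_comp_smooth_iff g (𝔸(ULift.{u} (Fin d); S) ↘ S) w (Flat.stalkMap g w), hg,
      gorAt_smooth_comp_iff W.ι f w]
  obtain ⟨O, hxO, hO⟩ := exists_open_gor_qf g ⟨x, hxW⟩ ((key _).2 hx)
  refine ⟨W.ι '' O, ?_, W.ι.isOpenEmbedding.isOpenMap _ O.2, ⟨_, hxO, rfl⟩⟩
  rintro _ ⟨w, hw, rfl⟩
  exact (key w).1 (hO w hw)

end GorOpenLib
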