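import Groth.Agent.GorLib.Socle
import Mathlib

/-!
# Gorenstein finite fibres and non-degenerate functionals
-/

set_option autoImplicit false
set_option linter.style.haveILetI false
universe u

open IsLocalRing TensorProduct

namespace GorOpenLib

/-- The kernel of `φ` contains no non-zero ideal. -/
def Nondeg {k C : Type u} [Field k] [CommRing C] [Algebra k C] (φ : C →ₗ[k] k) : Prop :=
  ∀ a : C, (∀ b, φ (a * b) = 0) → a = 0

theorem exists_nondeg {k C : Type u} [Field k] [CommRing C] [Algebra k C] [IsLocalRing C] [IsArtinianRing C]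
    (h : GorLib.SocCyclic C) : ∃ φ : C →ₗ[k] k, Nondeg φ := by
  obtain ⟨s, hs0, hs, hsoc⟩ := h
  obtain ⟨φ, hφ⟩ : ∃ φ : C →ₗ[k] k, φ s ≠ 0 := by
    by_contra hc
    push Not at hc
    exact hs0 ((Module.forall_dual_apply_eq_zero_iff k s).1 hc)
  refine ⟨φ, fun a ha => ?_⟩
  by_contra ha0
  have hex : ∀ n : ℕ, ∀ a : C, (∀ x ∈ maximalIdeal C ^ n, x * a = 0) → a ≠ 0 →
      ∃ c, c * a ≠ 0 ∧ ∀ m ∈ maximalIdeal C, m * (c * a) = 0 := by
    intro n
    induction n with
    | zero =>
      intro a h0 hne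
      exact absurd (by simpa using h0 1 (by simp)) hne
    | succ n ih =>
      intro a h0 hne
      by_cases hc : ∀ m ∈ maximalIdeal C, m * a = 0
      · exact ⟨1, by simpa using hne, by simpa using hc⟩
      · push Not at hc
        obtain ⟨m, hm, hma⟩ := hc
        obtain ⟨c, hc1, hc2⟩ := ih (m * a) (fun x hx => by
          rw [← mul_assoc]
          exact h0 _ (pow_succ (maximalIdeal C) n ▸ Ideal.mul_mem_mul hx hm)) hma
        exact ⟨c * m, by rwa [mul_assoc], fun x hx => by rw [mul_assoc c m a]; exact hc2 x hx⟩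
  obtain ⟨N, hN⟩ := IsArtinianRing.isNilpotent_jacobson_bot (R := C)
  rw [IsLocalRing.jacobson_eq_maximalIdeal ⊥ bot_ne_top] at hN
  obtain ⟨c, hc1, hc2⟩ := hex N a (fun x hx => by
    rw [hN] at hx; rw [Submodule.mem_bot _ |>.1 hx, zero_mul]) ha0
  obtain ⟨w, hw⟩ := Ideal.mem_span_singleton'.1 (hsoc (c * a) hc2)
  have hwu : IsUnit w := by
    by_contra hwn
    exact hc1 (by rw [← hw]; exact hs w hwn)
  obtain ⟨v, rfl⟩ := hwu
  refine hφ ?_
  have := ha (c * (↑v⁻¹ : C))
  rwa [show a * (c * (↑v⁻¹ : C)) = s by rw [← mul_assoc, mul_comm a c, ← hw, mul_right_comm,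
    Units.mul_inv, one_mul]] at this

theorem socCyclic_localization {k C : Type u} [Field k] [CommRing C] [Algebra k C] [Module.Finite k C]
    {φ : C →ₗ[k] k} (hφ : Nondeg φ) (Q : Ideal C) [Q.IsPrime] [IsArtinianRing (Localization.AtPrime Q)] :
    GorLib.SocCyclic (Localization.AtPrime Q) := by
  haveI : IsArtinianRing C := IsArtinianRing.of_finite k C
  haveI : Q.IsMaximal := inferInstance
  let L := Localization.AtPrime Q
  -- elements killed by `Q`
  have key : ∀ x : L, (∀ m ∈ maximalIdeal L, m * x = 0) →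
      ∃ b : C, (∀ q ∈ Q, q * b = 0) ∧ ∃ w : L, IsUnit w ∧ x = w * algebraMap C L b := by
    intro x hx
    obtain ⟨⟨c, u⟩, hcu⟩ := IsLocalization.surj Q.primeCompl x
    have hu : IsUnit (algebraMap C L u) := IsLocalization.map_units L u
    obtain ⟨G, hG⟩ := (IsNoetherian.noetherian Q : Q.FG)
    have h1 : ∀ g ∈ G, ∃ v : Q.primeCompl, (v : C) * (g * c) = 0 := by
      intro g hg
      have hgQ : g ∈ Q := hG ▸ Ideal.subset_span hg
      have hgm : algebraMap C L g ∈ maximalIdeal L := (IsLocalization.AtPrime.to_map_mem_maximal_iff L Q g).2 hgQ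
      refine (IsLocalization.map_eq_zero_iff Q.primeCompl L _).1 ?_
      rw [map_mul, ← hcu, ← mul_assoc, hx _ hgm, zero_mul]
    choose! v hv using h1
    let V : Q.primeCompl := ∏ g ∈ G, v g
    refine ⟨V * c, fun q hq => ?_, ?_⟩
    · rw [← hG] at hq
      refine Submodule.span_induction (fun g hg => ?_) (zero_mul _) (fun a b _ _ ha hb => by rw [add_mul, ha, hb, add_zero])
        (fun r a _ ha => by rw [smul_eq_mul, mul_assoc, ha, mul_zero]) hq
      obtain ⟨d, hd⟩ : (v g : C) ∣ (V : C) := by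
        simp only [V, Submonoid.coe_finsetProd]
        exact Finset.dvd_prod_of_mem (fun g => (v g : C)) hg
      rw [hd, show g * ((v g : C) * d * c) = d * ((v g : C) * (g * c)) by ring, hv g hg, mul_zero]
    · have hV : IsUnit (algebraMap C L V) := IsLocalization.map_units L V
      refine ⟨↑(hV.unit⁻¹) * ↑(hu.unit⁻¹), IsUnit.mul (Units.isUnit _) (Units.isUnit _), ?_⟩
      rw [map_mul, ← hcu]
      have e1 := hV.val_inv_mul
      have e2 := hu.val_inv_mul
      calc x = (↑(hV.unit⁻¹) * algebraMap C L V) * (↑(hu.unit⁻¹) * algebraMap C L u) * x := by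
              rw [e1, e2, one_mul, one_mul]
        _ = _ := by ring
  obtain ⟨x₀, hx₀0, hx₀⟩ : ∃ x₀ : L, x₀ ≠ 0 ∧ ∀ m ∈ maximalIdeal L, m * x₀ = 0 := by
    obtain ⟨p, hp⟩ := associatedPrimes.nonempty L L
    haveI := hp.isPrime
    have hpm : p = maximalIdeal L := IsLocalRing.eq_maximalIdeal inferInstance
    obtain ⟨hp', x, hx⟩ := isAssociatedPrime_iff.1 hp
    refine ⟨x, fun h0 => hp'.ne_top ((Ideal.eq_top_iff_one _).2 ?_), fun m hm => ?_⟩
    · rw [hx, h0, Submodule.mem_colon_singleton]; simp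
    · rw [← hpm, hx, Submodule.mem_colon_singleton] at hm
      simpa [smul_eq_mul] using hm
  obtain ⟨b₀, hb₀, w₀, hw₀, hx₀e⟩ := key x₀ hx₀
  have hb₀0 : b₀ ≠ 0 := fun h => hx₀0 (by rw [hx₀e, h, map_zero, mul_zero])
  refine ⟨x₀, hx₀0, hx₀, fun x hx => ?_⟩
  obtain ⟨b, hb, w, hw, hxe⟩ := key x hx
  -- the functional of `b` is a multiple of that of `b₀`
  have hsmul : ∀ e : C, (∀ q ∈ Q, q * e = 0) → ∀ (r : C), r ∈ Q → ∀ y, φ (e * (r * y)) = 0 := fun e he r hr y => by
    rw [← mul_assoc, mul_comm e r, he r hr, zero_mul, map_zero]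
  have hdim : ∃ r : C, ∀ y : C, φ (b * y) = φ (b₀ * (r * y)) := by
    letI : Field (C ⧸ Q) := Ideal.Quotient.field Q
    haveI : FiniteDimensional k (C ⧸ Q) := Module.Finite.of_surjective (Ideal.Quotient.mkₐ k Q).toLinearMap Ideal.Quotient.mk_surjective
    let ψ : ∀ e : C, (∀ q ∈ Q, q * e = 0) → ((C ⧸ Q) →ₗ[k] k) := fun e he =>
      (Submodule.liftQ (Q.restrictScalars k) (φ ∘ₗ LinearMap.mulLeft k e) (fun q hq => by
        show φ (e * q) = 0
        rw [mul_comm, he q hq, map_zero])).comp
        (Submodule.Quotient.restrictScalarsEquiv k Q).symm.toLinearMap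
    let T : (C ⧸ Q) →ₗ[k] ((C ⧸ Q) →ₗ[k] k) :=
      { toFun := fun r => (ψ b₀ hb₀).comp (LinearMap.mulLeft k r)
        map_add' := fun r r' => LinearMap.ext fun z => by simp [add_mul]
        map_smul' := fun a r => LinearMap.ext fun z => by simp }
    have hψ : ∀ e he (y : C), ψ e he (Ideal.Quotient.mk Q y) = φ (e * y) := fun e he y => rfl
    have hT : Function.Injective T := by
      refine (injective_iff_map_eq_zero T).2 fun r hr => ?_
      by_contra hr0
      refine hb₀0 (hφ b₀ fun y => ?_)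
      have := LinearMap.congr_fun hr (r⁻¹ * Ideal.Quotient.mk Q y)
      simp only [T, LinearMap.coe_mk, AddHom.coe_mk, LinearMap.comp_apply, LinearMap.mulLeft_apply,
        LinearMap.zero_apply] at this
      rwa [← mul_assoc, mul_inv_cancel₀ hr0, one_mul, hψ b₀ hb₀] at this
    obtain ⟨r, hr⟩ := (LinearMap.injective_iff_surjective_of_finrank_eq_finrank
      (Subspace.dual_finrank_eq (K := k) (V := C ⧸ Q)).symm).1 hT (ψ b hb)
    obtain ⟨r, rfl⟩ := Ideal.Quotient.mk_surjective r
    refine ⟨r, fun y => ?_⟩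
    have := LinearMap.congr_fun hr (Ideal.Quotient.mk Q y)
    simp only [T, LinearMap.coe_mk, AddHom.coe_mk, LinearMap.comp_apply, LinearMap.mulLeft_apply] at this
    rw [← map_mul, hψ b₀ hb₀, hψ b hb] at this
    exact this.symm
  obtain ⟨r, hr⟩ := hdim
  have hbr : b = b₀ * r := sub_eq_zero.1 (hφ _ fun y => by rw [sub_mul, map_sub, hr y, mul_assoc, sub_self])
  refine Ideal.mem_span_singleton'.2 ⟨w * ↑(hw₀.unit⁻¹) * algebraMap C L r, ?_⟩
  rw [hx₀e, hxe, hbr, map_mul]
  have e1 := hw₀.val_inv_mul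
  calc w * ↑(hw₀.unit⁻¹) * algebraMap C L r * (w₀ * algebraMap C L b₀)
        = w * (↑(hw₀.unit⁻¹) * w₀) * (algebraMap C L r * algebraMap C L b₀) := by ring
    _ = _ := by rw [e1]; ring

variable {A B : Type u} [CommRing A] [CommRing B] [Algebra A B] [Module.Finite A B]

/-- The functional on a fibre induced by a functional on the algebra. -/
noncomputable def fibreFun (Φ : B →ₗ[A] A) (p : Ideal A) [p.IsPrime] : p.Fiber B →ₗ[p.ResidueField] p.ResidueField :=
  (AlgebraTensorModule.rid A p.ResidueField p.ResidueField).toLinearMap ∘ₗ LinearMap.baseChange p.ResidueField Φ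

theorem fibreFun_tmul (Φ : B →ₗ[A] A) (p : Ideal A) [p.IsPrime] (c : p.ResidueField) (x : B) :
    fibreFun Φ p (c ⊗ₜ[A] x) = Φ x • c := by
  simp [fibreFun]

/-- Near a prime with local fibre with cyclic socle every fibre has a non-degenerate functional. -/
theorem exists_nbhd_nondeg [Module.Projective A B] (p : PrimeSpectrum A) (φ : p.asIdeal.Fiber B →ₗ[p.asIdeal.ResidueField] p.asIdeal.ResidueField)
    (hφ : Nondeg φ) :
    ∃ O : Set (PrimeSpectrum A), IsOpen O ∧ p ∈ O ∧ ∀ p' ∈ O,
      ∃ ψ : p'.asIdeal.Fiber B →ₗ[p'.asIdeal.ResidueField] p'.asIdeal.ResidueField, Nondeg ψ := by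
  classical
  obtain ⟨n, π, σ, -, -, hπσ⟩ := Module.Finite.exists_comp_eq_id_of_projective A B
  let k := p.asIdeal.ResidueField
  -- clear denominators of the values
  let val : Fin n → k := fun i => φ (1 ⊗ₜ π (Pi.single i 1))
  obtain ⟨s, hs, a, ha⟩ : ∃ (s : A) (_ : s ∉ p.asIdeal) (a : Fin n → A),
      ∀ i, algebraMap A k (a i) = s • val i := by
    obtain ⟨d, hd⟩ := IsLocalization.exist_integer_multiples_of_finite (nonZeroDivisors (A ⧸ p.asIdeal)) val
    obtain ⟨s, hs⟩ := Ideal.Quotient.mk_surjective (d : A ⧸ p.asIdeal)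
    choose a' ha' using hd
    choose a ha using fun i => Ideal.Quotient.mk_surjective (a' i)
    refine ⟨s, fun hs0 => nonZeroDivisors.coe_ne_zero d ?_, a, fun i => ?_⟩
    · rw [← hs, Ideal.Quotient.eq_zero_iff_mem]; exact hs0
    · rw [IsScalarTower.algebraMap_apply A (A ⧸ p.asIdeal) k, Ideal.Quotient.algebraMap_eq, ha, ha', ← hs,
        Algebra.smul_def, Algebra.smul_def, IsScalarTower.algebraMap_apply A (A ⧸ p.asIdeal) k,
        Ideal.Quotient.algebraMap_eq]
  let Φ : B →ₗ[A] A := (∑ i, a i • LinearMap.proj i) ∘ₗ σ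
  have hΦ : ∀ x : B, algebraMap A k (Φ x) = algebraMap A k s * φ (1 ⊗ₜ x) := by
    intro x
    have hx : x = ∑ i, σ x i • π (Pi.single i 1) := by
      conv_lhs => rw [← LinearMap.id_apply (R := A) x, ← hπσ, LinearMap.comp_apply,
        pi_eq_sum_univ' (σ x), map_sum]
      simp
    simp only [Φ, LinearMap.comp_apply, LinearMap.sum_apply, LinearMap.smul_apply, LinearMap.proj_apply,
      smul_eq_mul, map_sum, map_mul]
    conv_rhs => rw [hx, TensorProduct.tmul_sum, map_sum, Finset.mul_sum]
    refine Finset.sum_congr rfl fun i _ => ?_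
    rw [ha, Algebra.smul_def, TensorProduct.tmul_smul, LinearMap.map_smul_of_tower, Algebra.smul_def]
    ring
  -- elements lifting a basis of the fibre
  let gen : Fin n → p.asIdeal.Fiber B := fun i => 1 ⊗ₜ π (Pi.single i 1)
  have hgen : ⊤ ≤ Submodule.span k (Set.range gen) := by
    rintro z -
    induction z using TensorProduct.induction_on with
    | zero => exact zero_mem _
    | add x y hx hy => exact add_mem hx hy
    | tmul c x =>
      have hx : x = ∑ i, σ x i • π (Pi.single i 1) := by
        conv_lhs => rw [← LinearMap.id_apply (R := A) x, ← hπσ, LinearMap.comp_apply,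
          pi_eq_sum_univ' (σ x), map_sum]
        simp
      rw [hx, TensorProduct.tmul_sum]
      refine sum_mem fun i _ => ?_
      rw [TensorProduct.tmul_smul, TensorProduct.smul_tmul',
        show (σ x i • c) ⊗ₜ[A] π (Pi.single i 1) = (σ x i • c) • gen i by
          rw [TensorProduct.smul_tmul', smul_eq_mul, mul_one]]
      exact Submodule.smul_mem _ _ (Submodule.subset_span ⟨i, rfl⟩)
  obtain ⟨t, hts, hspan, hli⟩ := exists_linearIndependent k (Set.range gen)
  let bs := Module.Basis.mk hli (by rw [Subtype.range_coe, hspan]; exact hgen)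
  haveI : Finite t := ((Set.finite_range gen).subset hts).to_subtype
  haveI := Fintype.ofFinite t
  choose idx hidx using fun j : t => hts j.2
  let lift : t → B := fun j => π (Pi.single (idx j) 1)
  have hlift : ∀ j, (1 : k) ⊗ₜ[A] lift j = bs j := fun j => (hidx j).trans (Module.Basis.mk_apply _ _ _).symm
  let M : Matrix t t A := Matrix.of fun i j => Φ (lift i * lift j)
  -- the matrix is invertible at `p`
  have hdet : M.det ∉ p.asIdeal := by
    intro hmem
    have h0 : (M.map (algebraMap A k)).det = 0 := by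
      rw [← RingHom.mapMatrix_apply, ← RingHom.map_det]
      exact (Ideal.algebraMap_residueField_eq_zero).2 hmem
    obtain ⟨c, hc0, hc⟩ := Matrix.exists_vecMul_eq_zero_iff.2 h0
    have hs' : algebraMap A k s ≠ 0 := fun h => hs (Ideal.algebraMap_residueField_eq_zero.1 h)
    refine hc0 ?_
    have hz : ∑ i, c i • bs i = 0 := hφ _ fun y => by
      rw [← bs.sum_repr y, Finset.mul_sum, map_sum]
      refine Finset.sum_eq_zero fun j _ => ?_
      rw [mul_smul_comm, map_smul, Finset.sum_mul, map_sum]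
      have hj := congrFun hc j
      simp only [Matrix.vecMul, dotProduct, Matrix.map_apply, Pi.zero_apply, M, Matrix.of_apply] at hj
      have : algebraMap A k s * ∑ i, φ (c i • bs i * bs j) = 0 := by
        rw [Finset.mul_sum, ← hj]
        refine Finset.sum_congr rfl fun i _ => ?_
        rw [hΦ, smul_mul_assoc, map_smul, smul_eq_mul, ← hlift, ← hlift, Algebra.TensorProduct.tmul_mul_tmul, one_mul]
        ring
      rw [(mul_eq_zero.1 this).resolve_left hs', smul_zero]
    funext i
    exact Fintype.linearIndependent_iff.1 bs.linearIndependent c hz i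
  -- the spanning locus
  let N : Submodule A B := Submodule.span A (Set.range lift)
  have hsupp : p ∉ Module.support A (B ⧸ N) := by
    rw [Module.notMem_support_iff]
    haveI : Subsingleton (p.asIdeal.ResidueField ⊗[A] (B ⧸ N)) := by
      refine subsingleton_of_forall_eq 0 fun z => ?_
      obtain ⟨z, rfl⟩ := LinearMap.lTensor_surjective k (Submodule.mkQ_surjective N) z
      have hrange : ∀ z' : p.asIdeal.Fiber B, LinearMap.lTensor k N.mkQ z' = 0 := fun z' => by
        rw [← bs.sum_repr z', map_sum]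
        refine Finset.sum_eq_zero fun j _ => ?_
        rw [← hlift, TensorProduct.smul_tmul', smul_eq_mul, mul_one, LinearMap.lTensor_tmul,
          Submodule.mkQ_apply, (Submodule.Quotient.mk_eq_zero N).2 (Submodule.subset_span ⟨j, rfl⟩),
          TensorProduct.tmul_zero]
      exact hrange z
    by_contra hns
    have hne : p ∈ Module.support A (B ⧸ N) := by rwa [← Module.notMem_support_iff, not_not] at hns
    exact not_nontrivial_iff_subsingleton.2 ‹_› ((Module.mem_support_iff_nontrivial_residueField_tensorProduct p).1 hne)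
  have hclosed : IsClosed (Module.support A (B ⧸ N)) := by
    rw [Module.support_eq_zeroLocus]
    exact PrimeSpectrum.isClosed_zeroLocus _
  refine ⟨(PrimeSpectrum.basicOpen M.det : Set (PrimeSpectrum A)) ∩ (Module.support A (B ⧸ N))ᶜ,
    (PrimeSpectrum.basicOpen M.det).2.inter hclosed.isOpen_compl, ⟨hdet, hsupp⟩, ?_⟩
  rintro p' ⟨hdet', hsupp'⟩
  let k' := p'.asIdeal.ResidueField
  refine ⟨fibreFun Φ p'.asIdeal, fun z hz => ?_⟩
  have hgen' : ∀ x : B, (1 : k') ⊗ₜ[A] x ∈ Submodule.span k' (Set.range fun j => (1 : k') ⊗ₜ[A] lift j) := by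
    intro x
    obtain ⟨c, hc, hcx⟩ := Module.notMem_support_iff'.1 hsupp' (N.mkQ x)
    have hmem : c • x ∈ N := (Submodule.Quotient.mk_eq_zero N).1 (by rw [Submodule.Quotient.mk_smul]; exact hcx)
    have hc' : algebraMap A k' c ≠ 0 := fun h => hc (Ideal.algebraMap_residueField_eq_zero.1 h)
    rw [← Submodule.smul_mem_iff _ hc', algebraMap_smul, ← TensorProduct.tmul_smul]
    generalize c • x = w at hmem ⊢
    induction hmem using Submodule.span_induction with
    | mem y hy => obtain ⟨j, rfl⟩ := hy; exact Submodule.subset_span ⟨j, rfl⟩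
    | zero => rw [TensorProduct.tmul_zero]; exact zero_mem _
    | add y y' _ _ hy hy' => rw [TensorProduct.tmul_add]; exact add_mem hy hy'
    | smul r y _ hy => rw [TensorProduct.tmul_smul, ← algebraMap_smul k' r]; exact Submodule.smul_mem _ _ hy
  have htop : ∀ z : p'.asIdeal.Fiber B, z ∈ Submodule.span k' (Set.range fun j => (1 : k') ⊗ₜ[A] lift j) := by
    intro z
    induction z using TensorProduct.induction_on with
    | zero => exact zero_mem _
    | add x y hx hy => exact add_mem hx hy
    | tmul c x =>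
      rw [show c ⊗ₜ[A] x = c • ((1 : k') ⊗ₜ[A] x) by rw [TensorProduct.smul_tmul', smul_eq_mul, mul_one]]
      exact Submodule.smul_mem _ _ (hgen' x)
  obtain ⟨c, rfl⟩ := (Submodule.mem_span_range_iff_exists_fun k').1 (htop z)
  have hc : Matrix.vecMul c (M.map (algebraMap A k')) = 0 := by
    funext j
    have := hz ((1 : k') ⊗ₜ lift j)
    simp only [Finset.sum_mul, map_sum, smul_mul_assoc, map_smul, smul_eq_mul,
      Algebra.TensorProduct.tmul_mul_tmul, one_mul, fibreFun_tmul] at this
    simp only [Matrix.vecMul, dotProduct, Matrix.map_apply, Pi.zero_apply, M, Matrix.of_apply]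
    rw [← this]
    refine Finset.sum_congr rfl fun i _ => ?_
    erw [fibreFun_tmul]
    rw [Algebra.smul_def, mul_one]
  have hc0 : c = 0 := Matrix.eq_zero_of_vecMul_eq_zero (by
    rw [← RingHom.mapMatrix_apply, ← RingHom.map_det]
    exact fun h => hdet' (Ideal.algebraMap_residueField_eq_zero.1 h)) hc
  simp [hc0]

end GorOpenLib
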